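import Mathlib.Algebra.Homology.DerivedCategory.RightDerivedFunctorPlus
import Mathlib.CategoryTheory.Functor.Derived.Adjunction
import Mathlib.CategoryTheory.Functor.Derived.PointwiseLeftDerived
import Groth.Agent.Cohder.RDPlusAcyc
import Groth.Agent.CohtopB.RDPComp

/-!
# Adjunctions, compositions and isomorphisms of right derived functors on `D^+`

Everything is about Mathlib's `CategoryTheory.Functor.rightDerivedFunctorPlus`.

* `natTrans α`, `natIso e : F.rightDerivedFunctorPlus ≅ G.rightDerivedFunctorPlus` for `e : F ≅ G`;
* `isIso_unit F`: if `F` is exact then `F.rightDerivedFunctorPlusUnit` is an isomorphism;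
* `adj`: for an adjunction `F ⊣ G` with `F` exact, `F.rightDerivedFunctorPlus ⊣ G.rightDerivedFunctorPlus`,
  with the formulas `adj_unit`, `adj_counit` for unit and counit;
* `compIso`: for `F ⋙ G ≅ H`, `G` left exact, `F` sending injective objects to `G`-acyclic objects,
  `F.rightDerivedFunctorPlus ⋙ G.rightDerivedFunctorPlus ≅ H.rightDerivedFunctorPlus`.
-/

set_option autoImplicit false

universe w w' w'' v v' v'' u u' u''

open CategoryTheory Category Limits

namespace Groth.Agent.Etdl.H424.PlusAdj

section Ho

variable {A : Type u} [Category.{v} A] [Preadditive A] {B : Type u'} [Category.{v'} B] [Preadditive B]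

/-- The natural transformation on bounded below homotopy categories. -/
@[simps]
def mapHoPlus {F G : A ⥤ B} [F.Additive] [G.Additive]
    (α : F ⟶ G) : F.mapHomotopyCategoryPlus ⟶ G.mapHomotopyCategoryPlus where
  app K := ObjectProperty.homMk ((NatTrans.mapHomotopyCategory α (ComplexShape.up ℤ)).app K.obj)
  naturality K L f := by
    ext
    exact (NatTrans.mapHomotopyCategory α (ComplexShape.up ℤ)).naturality f.hom

/-- The natural isomorphism on bounded below homotopy categories. -/
@[simps]
def mapHoPlusIso {F G : A ⥤ B} [F.Additive] [G.Additive]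
    (e : F ≅ G) : F.mapHomotopyCategoryPlus ≅ G.mapHomotopyCategoryPlus where
  hom := mapHoPlus e.hom
  inv := mapHoPlus e.inv
  hom_inv_id := by
    ext K
    exact congrArg (fun t => t.app K.obj) ((NatTrans.mapHomotopyCategory_comp (ComplexShape.up ℤ)
      e.hom e.inv).symm.trans ((congrArg (fun t => NatTrans.mapHomotopyCategory t _) e.hom_inv_id).trans
        (NatTrans.mapHomotopyCategory_id _ _)))
  inv_hom_id := by
    ext K
    exact congrArg (fun t => t.app K.obj) ((NatTrans.mapHomotopyCategory_comp (ComplexShape.up ℤ)
      e.inv e.hom).symm.trans ((congrArg (fun t => NatTrans.mapHomotopyCategory t _) e.inv_hom_id).trans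
        (NatTrans.mapHomotopyCategory_id _ _)))

variable {F : A ⥤ B} {G : B ⥤ A} [F.Additive] [G.Additive] (adj : F ⊣ G)

/-- The adjunction on complexes. -/
@[simps]
def adjCx {ι : Type*} (c : ComplexShape ι) :
    F.mapHomologicalComplex c ⊣ G.mapHomologicalComplex c where
  unit :=
    { app := fun K ↦ { f := fun i ↦ adj.unit.app (K.X i)
                       comm' := fun i j _ ↦ (adj.unit.naturality (K.d i j)).symm }
      naturality := fun K L φ ↦ by
        ext i
        exact adj.unit.naturality (φ.f i) }
  counit :=
    { app := fun K ↦ { f := fun i ↦ adj.counit.app (K.X i)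
                       comm' := fun i j _ ↦ (adj.counit.naturality (K.d i j)).symm }
      naturality := fun K L φ ↦ by
        ext i
        exact adj.counit.naturality (φ.f i) }
  left_triangle_components K := by
    ext i
    exact adj.left_triangle_components (K.X i)
  right_triangle_components K := by
    ext i
    exact adj.right_triangle_components (K.X i)

/-- The adjunction on bounded below homotopy categories. -/
def adjHo : F.mapHomotopyCategoryPlus ⊣ G.mapHomotopyCategoryPlus where
  unit :=
    { app := fun K ↦ ObjectProperty.homMk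
        ((HomotopyCategory.quotient A (.up ℤ)).map ((adjCx adj (.up ℤ)).unit.app K.obj.as))
      naturality := fun K L φ ↦ by
        ext
        obtain ⟨φ', hφ⟩ := (HomotopyCategory.quotient A (.up ℤ)).map_surjective
          (X := K.obj.as) (Y := L.obj.as) φ.hom
        obtain ⟨φ⟩ := φ
        subst hφ
        exact ((HomotopyCategory.quotient A (.up ℤ)).map_comp φ' _).symm.trans
          ((congr_arg (HomotopyCategory.quotient A (.up ℤ)).map ((adjCx adj _).unit.naturality φ')).trans
          ((HomotopyCategory.quotient A (.up ℤ)).map_comp _ _)) }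
  counit :=
    { app := fun K ↦ ObjectProperty.homMk
        ((HomotopyCategory.quotient B (.up ℤ)).map ((adjCx adj (.up ℤ)).counit.app K.obj.as))
      naturality := fun K L φ ↦ by
        ext
        obtain ⟨φ', hφ⟩ := (HomotopyCategory.quotient B (.up ℤ)).map_surjective
          (X := K.obj.as) (Y := L.obj.as) φ.hom
        obtain ⟨φ⟩ := φ
        subst hφ
        exact ((HomotopyCategory.quotient B (.up ℤ)).map_comp _ _).symm.trans
          ((congr_arg (HomotopyCategory.quotient B (.up ℤ)).map ((adjCx adj _).counit.naturality φ')).trans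
          ((HomotopyCategory.quotient B (.up ℤ)).map_comp _ _)) }
  left_triangle_components K := by
    ext
    exact ((HomotopyCategory.quotient B (.up ℤ)).map_comp _ _).symm.trans
      ((congr_arg (HomotopyCategory.quotient B (.up ℤ)).map
        ((adjCx adj (.up ℤ)).left_triangle_components K.obj.as)).trans
          ((HomotopyCategory.quotient B (.up ℤ)).map_id _))
  right_triangle_components K := by
    ext
    exact ((HomotopyCategory.quotient A (.up ℤ)).map_comp _ _).symm.trans
      ((congr_arg (HomotopyCategory.quotient A (.up ℤ)).map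
        ((adjCx adj (.up ℤ)).right_triangle_components K.obj.as)).trans
          ((HomotopyCategory.quotient A (.up ℤ)).map_id _))

end Ho

section NatIso

variable {A : Type u} [Category.{v} A] [Abelian A] [HasDerivedCategory.{w} A] [EnoughInjectives A]
  {B : Type u'} [Category.{v'} B] [Abelian B] [HasDerivedCategory.{w'} B]
  {F G : A ⥤ B} [F.Additive] [G.Additive]

/-- The natural transformation between derived functors. -/
noncomputable def natTrans (α : F ⟶ G) : F.rightDerivedFunctorPlus ⟶ G.rightDerivedFunctorPlus :=
  Functor.rightDerivedNatTrans _ _ F.rightDerivedFunctorPlusUnit G.rightDerivedFunctorPlusUnit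
    (HomotopyCategory.Plus.quasiIso A) (Functor.whiskerRight (mapHoPlus α) _)

theorem natTrans_fac (α : F ⟶ G) (K : HomotopyCategory.Plus A) :
    F.rightDerivedFunctorPlusUnit.app K ≫ (natTrans α).app (DerivedCategory.Plus.Qh.obj K) =
      DerivedCategory.Plus.Qh.map ((mapHoPlus α).app K) ≫ G.rightDerivedFunctorPlusUnit.app K :=
  Functor.rightDerivedNatTrans_app _ _ _ _ _ _ _

/-- The natural isomorphism between derived functors. -/
noncomputable def natIso (e : F ≅ G) : F.rightDerivedFunctorPlus ≅ G.rightDerivedFunctorPlus :=
  Functor.rightDerivedNatIso _ _ F.rightDerivedFunctorPlusUnit G.rightDerivedFunctorPlusUnit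
    (HomotopyCategory.Plus.quasiIso A) (Functor.isoWhiskerRight (mapHoPlusIso e) _)

theorem natIso_hom (e : F ≅ G) : (natIso e).hom = natTrans e.hom := rfl

theorem natIso_inv (e : F ≅ G) : (natIso e).inv = natTrans e.inv := rfl

end NatIso

section Exact

variable {A : Type u} [Category.{v} A] [Abelian A] [HasDerivedCategory.{w} A]
  {B : Type u'} [Category.{v'} B] [Abelian B] [HasDerivedCategory.{w'} B]
  (F : A ⥤ B) [F.Additive] [PreservesFiniteLimits F] [PreservesFiniteColimits F]

omit [HasDerivedCategory.{w} A] in
/-- An exact functor inverts quasi-isomorphisms. -/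
theorem inverts : (HomotopyCategory.Plus.quasiIso A).IsInvertedBy
    (F.mapHomotopyCategoryPlus ⋙ DerivedCategory.Plus.Qh) := by
  intro K L f hf
  have h1 : HomotopyCategory.Plus.quasiIso B (F.mapHomotopyCategoryPlus.map f) := by
    obtain ⟨K, rfl⟩ := HomotopyCategory.Plus.quotient_obj_surjective K
    obtain ⟨L, rfl⟩ := HomotopyCategory.Plus.quotient_obj_surjective L
    obtain ⟨f, rfl⟩ := (HomotopyCategory.Plus.quotient A).map_surjective f
    have hf' : QuasiIso f.hom := (HomotopyCategory.quotient_map_mem_quasiIso_iff f.hom).1 hf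
    have h2 : QuasiIso ((F.mapHomologicalComplex (ComplexShape.up ℤ)).map f.hom) := inferInstance
    exact (HomotopyCategory.quotient_map_mem_quasiIso_iff
      ((F.mapHomologicalComplex (ComplexShape.up ℤ)).map f.hom)).2 h2
  exact Localization.inverts DerivedCategory.Plus.Qh (HomotopyCategory.Plus.quasiIso B) _ h1

/-- The unit of the derived functor of an exact functor is an isomorphism. -/
theorem isIso_unit [EnoughInjectives A] : IsIso F.rightDerivedFunctorPlusUnit :=
  Functor.isIso_of_isRightDerivedFunctor_of_inverts _ _ (inverts F)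

/-- The derived functor of an exact functor is computed termwise. -/
noncomputable def unitIso [EnoughInjectives A] :
    F.mapHomotopyCategoryPlus ⋙ DerivedCategory.Plus.Qh ≅
      DerivedCategory.Plus.Qh ⋙ F.rightDerivedFunctorPlus :=
  have := isIso_unit F
  asIso F.rightDerivedFunctorPlusUnit

@[simp]
theorem unitIso_hom [EnoughInjectives A] :
    (unitIso F).hom = F.rightDerivedFunctorPlusUnit := rfl

end Exact

section Adj

variable {A : Type u} [Category.{v} A] [Abelian A] [HasDerivedCategory.{w} A] [EnoughInjectives A]
  {B : Type u'} [Category.{v'} B] [Abelian B] [HasDerivedCategory.{w'} B] [EnoughInjectives B]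
  {F : A ⥤ B} {G : B ⥤ A} [F.Additive] [G.Additive]
  [PreservesFiniteLimits F] (adj : F ⊣ G)

/-- The derived adjunction on `D^+`. -/
theorem exists_adj : ∃ (dadj : F.rightDerivedFunctorPlus ⊣ G.rightDerivedFunctorPlus),
    (∀ K : HomotopyCategory.Plus A,
      dadj.unit.app (DerivedCategory.Plus.Qh.obj K) =
        DerivedCategory.Plus.Qh.map ((adjHo adj).unit.app K) ≫
          G.rightDerivedFunctorPlusUnit.app (F.mapHomotopyCategoryPlus.obj K) ≫
            G.rightDerivedFunctorPlus.map (F.rightDerivedFunctorPlusUnit.app K)) ∧
    (∀ K : HomotopyCategory.Plus B,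
      F.rightDerivedFunctorPlusUnit.app (G.mapHomotopyCategoryPlus.obj K) ≫
        F.rightDerivedFunctorPlus.map (G.rightDerivedFunctorPlusUnit.app K) ≫
          dadj.counit.app (DerivedCategory.Plus.Qh.obj K) =
        DerivedCategory.Plus.Qh.map ((adjHo adj).counit.app K)) := by
  have hFc : PreservesFiniteColimits F := by
    have : PreservesColimitsOfSize.{0, 0} F := adj.leftAdjoint_preservesColimits
    exact PreservesColimitsOfSize.preservesFiniteColimits _
  have hu := isIso_unit F
  have h1 : F.rightDerivedFunctorPlus.IsLeftDerivedFunctor (inv F.rightDerivedFunctorPlusUnit)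
      (HomotopyCategory.Plus.quasiIso A) :=
    (Functor.isLeftDerivedFunctor_iff_of_inverts _ _ (inverts F)).2 inferInstance
  have h2 : (F.rightDerivedFunctorPlus ⋙ G.rightDerivedFunctorPlus).IsLeftDerivedFunctor
      ((Functor.associator _ _ _).inv ≫ Functor.whiskerRight (inv F.rightDerivedFunctorPlusUnit)
        G.rightDerivedFunctorPlus) (HomotopyCategory.Plus.quasiIso A) := by
    refine (Functor.isLeftDerivedFunctor_iff_of_inverts _ _ ?_).2 inferInstance
    intro K L f hf
    have := inverts F f hf
    rw [Functor.comp_map]
    infer_instance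
  have h3 : (G.rightDerivedFunctorPlus ⋙ F.rightDerivedFunctorPlus).IsRightDerivedFunctor
      (Functor.whiskerRight G.rightDerivedFunctorPlusUnit F.rightDerivedFunctorPlus ≫
        (Functor.associator _ _ _).hom) (HomotopyCategory.Plus.quasiIso B) := by
    refine (HomotopyCategory.Plus.localizerMorphism_derives _).isRightDerivedFunctor_of_isIso _
      (fun X => ?_)
    have h2 : IsIso (G.rightDerivedFunctorPlusUnit.app
        ((InjectiveObject.ι B).mapHomotopyCategoryPlus.obj X)) := by
      infer_instance
    dsimp
    infer_instance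
  let dadj := (adjHo adj).derived (HomotopyCategory.Plus.quasiIso A)
    (HomotopyCategory.Plus.quasiIso B) (inv F.rightDerivedFunctorPlusUnit)
    G.rightDerivedFunctorPlusUnit
  refine ⟨dadj, fun K ↦ ?_, fun K ↦ ?_⟩
  · have := (adjHo adj).derivedη_fac_app
      (HomotopyCategory.Plus.quasiIso A) (inv F.rightDerivedFunctorPlusUnit)
      G.rightDerivedFunctorPlusUnit K
    change (dadj.unit.app _) ≫ _ = _ at this
    rw [← Category.assoc, ← this, Category.assoc, ← Functor.map_comp, NatIso.isIso_inv_app,
      IsIso.inv_hom_id, CategoryTheory.Functor.map_id]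
    exact (Category.comp_id _).symm
  · have := (adjHo adj).derivedε_fac_app
      (HomotopyCategory.Plus.quasiIso B) (inv F.rightDerivedFunctorPlusUnit)
      G.rightDerivedFunctorPlusUnit K
    change _ ≫ (dadj.counit.app _) = _ at this
    rw [this, NatIso.isIso_inv_app, IsIso.hom_inv_id_assoc]

/-- The derived adjunction on `D^+` of an adjunction `F ⊣ G` with `F` exact. -/
noncomputable def dadj : F.rightDerivedFunctorPlus ⊣ G.rightDerivedFunctorPlus :=
  (exists_adj adj).choose

theorem dadj_unit (K : HomotopyCategory.Plus A) :
    (dadj adj).unit.app (DerivedCategory.Plus.Qh.obj K) =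
      DerivedCategory.Plus.Qh.map ((adjHo adj).unit.app K) ≫
        G.rightDerivedFunctorPlusUnit.app (F.mapHomotopyCategoryPlus.obj K) ≫
          G.rightDerivedFunctorPlus.map (F.rightDerivedFunctorPlusUnit.app K) :=
  (exists_adj adj).choose_spec.1 K

theorem dadj_counit (K : HomotopyCategory.Plus B) :
    F.rightDerivedFunctorPlusUnit.app (G.mapHomotopyCategoryPlus.obj K) ≫
      F.rightDerivedFunctorPlus.map (G.rightDerivedFunctorPlusUnit.app K) ≫
        (dadj adj).counit.app (DerivedCategory.Plus.Qh.obj K) =
      DerivedCategory.Plus.Qh.map ((adjHo adj).counit.app K) :=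
  (exists_adj adj).choose_spec.2 K

end Adj

section Comp

variable {A : Type u} [Category.{v} A] [Abelian A] [HasDerivedCategory.{w} A] [EnoughInjectives A]
  {B : Type u'} [Category.{v'} B] [Abelian B] [HasDerivedCategory.{w'} B] [EnoughInjectives B]
  {C : Type u''} [Category.{v''} C] [Abelian C] [HasDerivedCategory.{w''} C]
  (F : A ⥤ B) (G : B ⥤ C) (H : A ⥤ C) [F.Additive] [G.Additive] [H.Additive] (e : F ⋙ G ≅ H)

/-- If `F` sends injectives to `G`-acyclics, then `RF ⋙ RG` is the right derived functor of `F ⋙ G`. -/
theorem isRightDerivedFunctor_comp [PreservesFiniteLimits G]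
    (hF : ∀ I : A, Injective I → ∀ i : ℕ, 0 < i → IsZero ((G.rightDerived i).obj (F.obj I))) :
    (F.rightDerivedFunctorPlus ⋙ G.rightDerivedFunctorPlus).IsRightDerivedFunctor
      (CohtopB.RDPComp.unitComp F G H e) (HomotopyCategory.Plus.quasiIso A) := by
  refine (HomotopyCategory.Plus.localizerMorphism_derives _).isRightDerivedFunctor_of_isIso _
    (fun X => ?_)
  have h1 : IsIso (G.rightDerivedFunctorPlusUnit.app
      (F.mapHomotopyCategoryPlus.obj ((InjectiveObject.ι A).mapHomotopyCategoryPlus.obj X))) := by
    obtain ⟨X, rfl⟩ := HomotopyCategory.Plus.quotient_obj_surjective X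
    exact Cohder.RDPlusAcyc.isIso_unit_app G
      (F.mapCochainComplexPlus.obj ((InjectiveObject.ι A).mapCochainComplexPlus.obj X))
      (fun m i hi => hF _ (inferInstance : Injective
        (((InjectiveObject.ι A).mapHomotopyCategoryPlus.obj
          ((HomotopyCategory.Plus.quotient _).obj X)).obj.as.X m)) i hi)
  have h2 : IsIso (F.rightDerivedFunctorPlusUnit.app
      ((InjectiveObject.ι A).mapHomotopyCategoryPlus.obj X)) := by
    infer_instance
  dsimp [CohtopB.RDPComp.unitComp]
  infer_instance

/-- Composite of right derived functors on bounded below derived categories. -/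
noncomputable def compIso [PreservesFiniteLimits G]
    (hF : ∀ I : A, Injective I → ∀ i : ℕ, 0 < i → IsZero ((G.rightDerived i).obj (F.obj I))) :
    F.rightDerivedFunctorPlus ⋙ G.rightDerivedFunctorPlus ≅ H.rightDerivedFunctorPlus :=
  have := isRightDerivedFunctor_comp F G H e hF
  Functor.rightDerivedUnique _ _ (CohtopB.RDPComp.unitComp F G H e) H.rightDerivedFunctorPlusUnit
    (HomotopyCategory.Plus.quasiIso A)

end Comp

end Groth.Agent.Etdl.H424.PlusAdj
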