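import Groth.Agent.Etrest.ModAb
import Groth.Agent.Etrest.ModSmul
import Groth.Agent.Sga4h.ModRestr

/-!
# Lifting isomorphisms of abelian sheaves to sheaves of modules; extension by zero and `ab`

* `ofAb`: a morphism of underlying abelian sheaves commuting with scalars is a morphism of sheaves of modules;
* `liftIso`: a natural isomorphism `P ⋙ ab ≅ Q ⋙ ab` between `Λ`-linear functors lifts to `P ≅ Q`;
* `ext_smulEnd`, `res_smulEnd`: extension by zero and restriction are linear;
* `resCoindIso`, `extAbIso p : ext Λ p ⋙ ab Λ X ≅ ab Λ V ⋙ EtShriek.extZero p`;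
* `pullResIso p : EtModW.pull Λ p ≅ res Λ p` for `p` etale.
-/

set_option autoImplicit false
universe u v' u'

open CategoryTheory CategoryTheory.Limits AlgebraicGeometry Opposite

namespace Groth.Agent.Etdl.H424.ModLift

open Groth.Agent.Etrest.ModAb Groth.Agent.Etrest.ModSmul Groth.Agent.Sga4h.ModRestr
  Groth.Agent.Sga4h.EtaleRes

variable {Λ : Type (u + 1)} [CommRing Λ] {X Y : Scheme.{u}}

/-- A morphism of underlying abelian sheaves commuting with the scalars. -/
noncomputable def ofAb {F G : EtModW.Mod Λ X} (φ : (ab Λ X).obj F ⟶ (ab Λ X).obj G)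
    (h : ∀ r : Λ, (ab Λ X).map (smulEnd r F) ≫ φ = φ ≫ (ab Λ X).map (smulEnd r G)) : F ⟶ G :=
  ⟨{ app := fun V => ModuleCat.ofHom
      { toFun := fun s => (φ.hom.app V).hom s
        map_add' := fun s t => map_add (φ.hom.app V).hom s t
        map_smul' := fun r s => by
          have := congrArg (fun ψ => (ψ.hom.app V).hom s) (h r)
          exact this }
     naturality := fun V W f => by
      ext s
      exact congrArg (fun ψ => ψ.hom s) (φ.hom.naturality f) }⟩

theorem ab_map_ofAb {F G : EtModW.Mod Λ X} (φ : (ab Λ X).obj F ⟶ (ab Λ X).obj G)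
    (h : ∀ r : Λ, (ab Λ X).map (smulEnd r F) ≫ φ = φ ≫ (ab Λ X).map (smulEnd r G)) :
    (ab Λ X).map (ofAb φ h) = φ := by
  apply Sheaf.hom_ext
  rfl

section lift

variable {C : Type u'} [Category.{v'} C] (m : Λ → (𝟭 C ⟶ 𝟭 C)) {P Q : C ⥤ EtModW.Mod Λ Y}
  (hP : ∀ (r : Λ) (F : C), P.map ((m r).app F) = smulEnd r (P.obj F))
  (hQ : ∀ (r : Λ) (F : C), Q.map ((m r).app F) = smulEnd r (Q.obj F))

include m hP hQ in
theorem comm (e : P ⋙ ab Λ Y ⟶ Q ⋙ ab Λ Y) (F : C) (r : Λ) :
    (ab Λ Y).map (smulEnd r (P.obj F)) ≫ e.app F = e.app F ≫ (ab Λ Y).map (smulEnd r (Q.obj F)) := by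
  rw [← hP, ← hQ]
  exact e.naturality ((m r).app F)

/-- A natural transformation of underlying abelian sheaves between linear functors lifts. -/
noncomputable def liftHom (e : P ⋙ ab Λ Y ⟶ Q ⋙ ab Λ Y) : P ⟶ Q where
  app F := ofAb (e.app F) (comm m hP hQ e F)
  naturality F G f := by
    apply (ab Λ Y).map_injective
    rw [Functor.map_comp, Functor.map_comp, ab_map_ofAb, ab_map_ofAb]
    exact e.naturality f

theorem ab_map_liftHom (e : P ⋙ ab Λ Y ⟶ Q ⋙ ab Λ Y) (F : C) :
    (ab Λ Y).map ((liftHom m hP hQ e).app F) = e.app F := ab_map_ofAb _ (comm m hP hQ e F)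

/-- A natural isomorphism of underlying abelian sheaves between linear functors lifts. -/
noncomputable def liftIso (e : P ⋙ ab Λ Y ≅ Q ⋙ ab Λ Y) : P ≅ Q where
  hom := liftHom m hP hQ e.hom
  inv := liftHom m hQ hP e.inv
  hom_inv_id := by
    ext F : 2
    apply (ab Λ Y).map_injective
    rw [NatTrans.comp_app, Functor.map_comp, ab_map_liftHom, ab_map_liftHom]
    exact (e.hom_inv_id_app F).trans ((ab Λ Y).map_id _).symm
  inv_hom_id := by
    ext F : 2
    apply (ab Λ Y).map_injective
    rw [NatTrans.comp_app, Functor.map_comp, ab_map_liftHom, ab_map_liftHom]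
    exact (e.inv_hom_id_app F).trans ((ab Λ Y).map_id _).symm

end lift

section etale

variable {V : Scheme.{u}} (p : V ⟶ X) [Etale p]

attribute [local instance] jCont

theorem res_smulEnd (r : Λ) (F : EtModW.Mod Λ X) :
    (res Λ p).map (smulEnd r F) = smulEnd r ((res Λ p).obj F) := rfl

theorem ext_smulEnd (r : Λ) (F : EtModW.Mod Λ V) :
    (ext Λ p).map (smulEnd r F) = smulEnd r ((ext Λ p).obj F) :=
  leftAdjoint_map_endo (extResAdj Λ p) (smulNat Λ V r) (smulNat Λ X r) (res_smulEnd p r) F

variable (Λ) in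
/-- Restriction commutes with coinduction. -/
noncomputable def resCoindIso : coindSh Λ X ⋙ res Λ p ≅ EtShriek.restrAlong p ⋙ coindSh Λ V :=
  NatIso.ofComponents (fun _ => Iso.refl _) (fun _ => by
    apply Sheaf.hom_ext
    rfl)

variable (Λ) in
/-- Extension by zero commutes with passing to the underlying abelian sheaf. -/
noncomputable def extAbIso : ext Λ p ⋙ ab Λ X ≅ ab Λ V ⋙ EtShriek.extZero p :=
  (((extResAdj Λ p).comp (coindShAdj Λ X)).ofNatIsoRight (resCoindIso Λ p)).leftAdjointUniq
    ((coindShAdj Λ V).comp (EtShriek.extZeroAdj p))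

variable (Λ) in
/-- Inverse image along an etale morphism is restriction. -/
noncomputable def pullResIso : EtModW.pull Λ p ≅ res Λ p :=
  (pullPushAdj Λ p).leftAdjointUniq (resPushAdj Λ p)

end etale

end Groth.Agent.Etdl.H424.ModLift
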