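import Groth.Prelude.Def_EtDl
import Groth.Agent.Etdl.H424.ModLift
import Groth.Agent.Etdl.H424.PlusAdj
import Groth.Agent.Etrest.ModAbR
import Groth.Agent.Etrest.Deg0Fun
import Groth.Agent.Etrest.EtExtStalk
import Groth.Agent.Etrest.ShriekAcyc
import Groth.Agent.EtpbcA.PullFLC
import Groth.Agent.Etbase.PushExact
import Groth.Agent.Desc.LQF

/-!
# `R^+ f_! ⊣ f^*` for `f` etale compactifiable and torsion coefficients

* `isoAb c : j_! ⋙ fbar_* ≅ f_!` (abelian sheaves), `isoMod c` (sheaves of `Λ`-modules);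
* `isZero_Rpush_ext`: `R^q fbar_* (j_! F) = 0` for `q > 0`;
* `rshriekIso`: `R^+ fbar_* ∘ j_! ≅ f_!` on `D^+`;
* `adjunction`: `R^+ fbar_* ∘ j_! ⊣ f^*`.
-/

set_option autoImplicit false
universe u

open CategoryTheory CategoryTheory.Limits AlgebraicGeometry Opposite

attribute [local instance] HasDerivedCategory.standard

namespace Groth.Agent.Etdl.H424.EtaleShriek

open Groth.Agent.Etrest Groth.Agent.Etrest.ModAb Groth.Agent.Etrest.ModSmul Groth.Agent.Sga4h.ModRestr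
  Groth.Agent.Sga4h.EtaleRes Groth.Agent.Etdl.H424.ModLift

attribute [local instance] jCont

variable (Λ : Type (u + 1)) [CommRing Λ] {X S : Scheme.{u}} {f : X ⟶ S} (c : DEt.Compactification f)

include c in
theorem isSeparated : IsSeparated f := by
  rw [← c.fac]
  infer_instance

section

variable [Etale f]

/-- `fbar_* j_! ≅ f_!` for abelian sheaves and `f` etale. -/
noncomputable def isoAb : EtShriek.extZero c.j ⋙ EtCoh.push c.fbar ≅ EtShriek.extZero f :=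
  have := isSeparated c
  Functor.isoWhiskerRight (EtExtStalk.extZeroIsoLowerShriek c.j) (EtCoh.push c.fbar) ≪≫
    Deg0.exchange c.fbar f (𝟙 X) c.j (by rw [Category.id_comp, c.fac]) ≪≫
    Functor.isoWhiskerRight (EtpbcA.PullFLC.pushId X) _ ≪≫ Functor.leftUnitor _ ≪≫
    (EtExtStalk.extZeroIsoLowerShriek f).symm

/-- `fbar_* j_! ≅ f_!` for sheaves of modules and `f` etale. -/
noncomputable def isoMod : ext Λ c.j ⋙ EtModW.push Λ c.fbar ≅ ext Λ f :=
  liftIso (fun r => smulNat Λ X r)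
    (fun r F => congrArg (EtModW.push Λ c.fbar).map (ext_smulEnd c.j r F))
    (fun r F => ext_smulEnd f r F)
    (Functor.associator _ _ _ ≪≫ Functor.isoWhiskerLeft (ext Λ c.j) (pushIso Λ c.fbar) ≪≫
      (Functor.associator _ _ _).symm ≪≫
      Functor.isoWhiskerRight (extAbIso Λ c.j) (EtCoh.push c.fbar) ≪≫
      Functor.associator _ _ _ ≪≫ Functor.isoWhiskerLeft (ab Λ X) (isoAb c) ≪≫
      (extAbIso Λ f).symm)

end

variable {Λ}

theorem isTorsion_ab (n : ℕ) (hn : 0 < n) (hΛ : (n : Λ) = 0) (F : EtModW.Mod Λ X) :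
    EtCoh.IsTorsion ((ab Λ X).obj F) := by
  intro U s x
  refine ⟨U, 𝟙 U, ⟨x, rfl⟩, ?_⟩
  refine isOfFinAddOrder_iff_nsmul_eq_zero.2 ⟨n, hn, ?_⟩
  generalize ((ab Λ X).obj F).obj.map (𝟙 U).op s = t
  have h : ∀ t : F.obj.obj (op U), n • t = 0 := fun t => by
    rw [← Nat.cast_smul_eq_nsmul Λ, hΛ, zero_smul]
  exact h t

theorem isZero_of_ab (F : EtModW.Mod Λ X) (h : IsZero ((ab Λ X).obj F)) : IsZero F := by
  rw [IsZero.iff_id_eq_zero] at h ⊢
  apply (ab Λ X).map_injective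
  rw [(ab Λ X).map_id, h, (ab Λ X).map_zero]

/-- the higher direct images of the identity vanish -/
theorem isZero_Rpush_id (F : EtCoh.Ab X) (n : ℕ) :
    IsZero ((EtCoh.Rpush (𝟙 X) (n + 1)).obj F) := by
  have hex : PreservesFiniteColimits (EtCoh.push (𝟙 X)) :=
    preservesFiniteColimits_of_natIso (EtpbcA.PullFLC.pushId X).symm
  have hex' : PreservesFiniteLimits (EtCoh.push (𝟙 X)) :=
    preservesFiniteLimits_of_natIso (EtpbcA.PullFLC.pushId X).symm
  exact Etbase.PushExact.isZero_rightDerived_of_exact (EtCoh.push (𝟙 X)) F n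

/-- `R^q fbar_* (j_! F) = 0` for `q > 0` if `f = j ≫ fbar` is etale. -/
theorem isZero_Rpush_ext [Etale f] (n : ℕ) (hn : 0 < n) (hΛ : (n : Λ) = 0) (F : EtModW.Mod Λ X)
    (q : ℕ) (hq : 0 < q) : IsZero ((EtModW.Rpush Λ c.fbar q).obj ((ext Λ c.j).obj F)) := by
  have := isSeparated c
  have : LocallyQuasiFinite f := Desc.LQF.of_etale f
  obtain ⟨q, rfl⟩ : ∃ r, q = r + 1 := ⟨q - 1, by omega⟩
  apply isZero_of_ab
  refine IsZero.of_iso ?_ ((rpushIso Λ c.fbar (q + 1)).app _)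
  refine IsZero.of_iso ?_ ((EtCoh.Rpush c.fbar (q + 1)).mapIso
    ((extAbIso Λ c.j).app F ≪≫ (EtExtStalk.extZeroIsoLowerShriek c.j).app _))
  exact ShriekAcyc.isZero_Rpush_lowerShriek c.fbar f (𝟙 X) c.j (by rw [Category.id_comp, c.fac])
    _ (isTorsion_ab n hn hΛ F) _ (isZero_Rpush_id _ q)

/-- `R^+ fbar_* ∘ j_! ≅ f_!` on `D^+` for `f = j ≫ fbar` etale. -/
noncomputable def rshriekIso [Etale f] (n : ℕ) (hn : 0 < n) (hΛ : (n : Λ) = 0) :
    EtDl.RshriekPlus Λ c ≅ (ext Λ f).rightDerivedFunctorPlus :=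
  PlusAdj.compIso (ext Λ c.j) (EtModW.push Λ c.fbar) (ext Λ f) (isoMod Λ c)
    (fun I _ q hq => isZero_Rpush_ext c n hn hΛ I q hq)

/-- `R^+ fbar_* ∘ j_! ⊣ f^*` on `D^+` for `f = j ≫ fbar` etale. -/
noncomputable def adjunction [Etale f] (n : ℕ) (hn : 0 < n) (hΛ : (n : Λ) = 0) :
    EtDl.RshriekPlus Λ c ⊣ EtDl.pullPlus Λ f :=
  ((PlusAdj.dadj (extResAdj Λ f)).ofNatIsoLeft (rshriekIso c n hn hΛ).symm).ofNatIsoRight
    (PlusAdj.natIso (pullResIso Λ f).symm)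

end Groth.Agent.Etdl.H424.EtaleShriek
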